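import Cfsg.Agent.H607.Car.E6Def
import Cfsg.Agent.S1093
import Cfsg.Agent.ChevalleyStructure.CoxeterWordCheck

/-!
# `E₆`: homomorphisms of the root lattice modulo a prime `l ≥ 5` lift with the same stabiliser
(S3852, T1 `LiftSt`, helper298)
-/

set_option autoImplicit false
set_option linter.unusedSectionVars false

namespace Cfsg.Agent.H298.Car

open CoxeterSystem Subgroup Cfsg Cfsg.Lie Cfsg.Lie.ChevalleyDatum
open Cfsg.Agent.ChevalleyStructure Cfsg.Agent.ChevalleyStructure.CoxeterGeom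
  Cfsg.Agent.ChevalleyStructure.CoxeterGeomTypes
open Cfsg.Agent.Tits.Roots Cfsg.Agent.Tits.Core
open Cfsg.Agent.H720.TwFr (hp6)
open Cfsg.Agent.H607.Car

section val

variable {A B : Type*} [AddCommGroup A] [AddCommGroup B]

/-- `val c` as a homomorphism -/
def valHom (c : Fin 6 → A) : (Fin 6 → ℤ) →+ A where
  toFun := val c
  map_zero' := by simp [val]
  map_add' a b := by simp [val, add_smul, Finset.sum_add_distrib]

theorem val_sr (c : Fin 6 → A) (i : Fin 6) : val c (sr i) = c i := by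
  unfold val
  rw [Finset.sum_eq_single i]
  · rw [sr_self, one_smul]
  · intro j _ hj
    rw [sr_ne hj, zero_smul]
  · simp

theorem eq_sum_sr (a : Fin 6 → ℤ) : a = ∑ k, a k • sr k := by
  funext j
  simp [Finset.sum_apply, sr, Pi.single_apply]

theorem hom_ext {f g : (Fin 6 → ℤ) →+ A} (h : ∀ i, f (sr i) = g (sr i)) : f = g := by
  refine AddMonoidHom.ext fun a => ?_
  rw [eq_sum_sr a, map_sum, map_sum]
  refine Finset.sum_congr rfl fun i _ => ?_
  rw [map_zsmul, map_zsmul, h]

/-- the homomorphism `val c ∘ w` -/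
def pull (c : Fin 6 → A) (w : W6) : Fin 6 → A := fun i => val c (rp w (sr i))

theorem val_pull (c : Fin 6 → A) (w : W6) (a : Fin 6 → ℤ) : val (pull c w) a = val c (rp w a) := by
  have h : valHom (pull c w) = (valHom c).comp (rep cs6 hp6.isCartan w).toAddMonoidHom :=
    hom_ext fun i => by
      show val (pull c w) (sr i) = val c (rp w (sr i))
      rw [val_sr]
      rfl
  exact DFunLike.congr_fun h a

theorem pull_mul (c : Fin 6 → A) (v w : W6) : pull c (v * w) = pull (pull c v) w := by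
  funext i
  show val c (rp (v * w) (sr i)) = val (pull c v) (rp w (sr i))
  rw [val_pull]
  congr 1
  exact rep_mul_apply cs6 hp6.isCartan v w (sr i)

theorem pull_one (c : Fin 6 → A) : pull c 1 = c := by
  funext i
  show val c (rep cs6 hp6.isCartan 1 (sr i)) = c i
  rw [map_one, Module.End.one_apply, val_sr]

theorem fixW_iff (c : Fin 6 → A) (w : W6) : FixW c w ↔ pull c w = c := by
  constructor
  · intro h
    funext i
    rw [← val_sr c i]
    exact h (sr i)
  · intro h a
    rw [← val_pull, h]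

/-- the stabiliser -/
def stab (c : Fin 6 → A) : Subgroup W6 where
  carrier := {w | pull c w = c}
  one_mem' := pull_one c
  mul_mem' := by
    intro v w hv hw
    show pull c (v * w) = c
    rw [pull_mul, show pull c v = c from hv, show pull c w = c from hw]
  inv_mem' := by
    intro w hw
    show pull c w⁻¹ = c
    have h : pull c (w * w⁻¹) = c := by rw [mul_inv_cancel, pull_one]
    rwa [pull_mul, show pull c w = c from hw] at h

theorem mem_stab {c : Fin 6 → A} {w : W6} : w ∈ stab c ↔ pull c w = c := Iff.rfl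

theorem val_map (f : A →+ B) (c : Fin 6 → A) (a : Fin 6 → ℤ) : f (val c a) = val (fun i => f (c i)) a := by
  unfold val
  rw [map_sum]
  exact Finset.sum_congr rfl fun i _ => map_zsmul f _ _

theorem pull_map (f : A →+ B) (c : Fin 6 → A) (w : W6) : (fun i => f (pull c w i)) = pull (fun i => f (c i)) w := by
  funext i
  exact val_map f c _

theorem pull_sum {ι : Type*} (s : Finset ι) (F : ι → Fin 6 → A) (w : W6) :
    pull (∑ q ∈ s, F q) w = ∑ q ∈ s, pull (F q) w := by
  classical
  induction s using Finset.induction_on with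
  | empty =>
    funext i
    simp [pull, val]
  | insert a s ha ih =>
    rw [Finset.sum_insert ha, Finset.sum_insert ha, ← ih]
    funext i
    simp [pull, val, smul_add, Finset.sum_add_distrib]

theorem pull_smul (k : ℤ) (c : Fin 6 → A) (w : W6) : pull (k • c) w = k • pull c w := by
  funext i
  simp only [pull, val, Pi.smul_apply, Finset.smul_sum]
  exact Finset.sum_congr rfl fun j _ => smul_comm _ _ _

theorem pull_simple (c : Fin 6 → A) (i j : Fin 6) :
    pull c (cs6.simple i) j = c j - cartanOf chevE6 6 i j • c i := by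
  show val c (rep cs6 hp6.isCartan (cs6.simple i) (sr j)) = _
  rw [rep_simple_eq]
  have h1 : valHom c (sr j - pairing (cartanOf chevE6 6) i (sr j) • sr i) =
      valHom c (sr j) - pairing (cartanOf chevE6 6) i (sr j) • valHom c (sr i) := by
    rw [map_sub, map_zsmul]
  have h2 : pairing (cartanOf chevE6 6) i (sr j) = cartanOf chevE6 6 i j := by
    unfold pairing
    rw [Finset.sum_eq_single j]
    · rw [sr_self, mul_one]
    · intro k _ hk
      rw [sr_ne hk, mul_zero]
    · simp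
  rw [h2] at h1
  refine (show val c _ = valHom c _ from rfl).trans ?_
  rw [h2, h1]
  show val c (sr j) - _ • val c (sr i) = _
  rw [val_sr, val_sr]

theorem simple_mem_stab {c : Fin 6 → A} {i : Fin 6} (h : c i = 0) : cs6.simple i ∈ stab c := by
  rw [mem_stab]
  funext j
  rw [pull_simple, h, smul_zero, sub_zero]

end val

/-- an element of order 5 -/
def u0 : W6 := cs6.simple 0 * cs6.simple 2 * cs6.simple 3 * cs6.simple 4

/-- the Cartan matrix -/
def CM : List (List ℤ) := [[2,0,-1,0,0,0],[0,2,0,-1,0,0],[-1,0,2,-1,0,0],[0,-1,-1,2,-1,0],[0,0,0,-1,2,-1],[0,0,0,0,-1,2]]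

set_option backward.isDefEq.respectTransparency false in
theorem ct : ∀ i j : Fin 6, cartanOf chevE6 6 i j = (CM.getD i []).getD j 0 := by
  decide +kernel

theorem zero_of_u0 {A : Type*} [AddCommGroup A] {c : Fin 6 → A} (h : u0 ∈ stab c) :
    c 0 = 0 ∧ c 2 = 0 ∧ c 3 = 0 ∧ c 4 = 0 := by
  rw [mem_stab, u0, pull_mul, pull_mul, pull_mul] at h
  have h0 := congrFun h 0
  have h1 := congrFun h 1
  have h2 := congrFun h 2
  have h3 := congrFun h 3
  have h4 := congrFun h 4
  have h5 := congrFun h 5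
  simp only [pull_simple, ct] at h0 h1 h2 h3 h4 h5
  simp [CM] at h0 h1 h2 h3 h4 h5
  have e4 : c 4 = 0 := by
    calc c 4 = (-c 2 + -c 0 - c 3) - (-c 2 + -c 0 - c 3 - c 4) := by abel
      _ = 0 := by rw [h5, h1, sub_zero]
  have e3 : c 3 = 0 := by
    refine h3.symm.trans (Eq.trans ?_ e4)
    abel
  have e2 : c 2 = 0 := by
    refine h2.symm.trans (Eq.trans ?_ e3)
    abel
  have e0 : c 0 = 0 := by
    refine h0.symm.trans (Eq.trans ?_ e2)
    abel
  exact ⟨e0, e2, e3, e4⟩

theorem u0_mem {A : Type*} [AddCommGroup A] {c : Fin 6 → A} (h0 : c 0 = 0) (h2 : c 2 = 0) (h3 : c 3 = 0) (h4 : c 4 = 0) :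
    u0 ∈ stab c :=
  mul_mem (mul_mem (mul_mem (simple_mem_stab h0) (simple_mem_stab h2)) (simple_mem_stab h3)) (simple_mem_stab h4)

theorem wordProd_pow (l : List (Fin 6)) (m : ℕ) :
    cs6.wordProd l ^ m = cs6.wordProd ((List.replicate m l).flatten) := by
  induction m with
  | zero => simp
  | succ m ih => rw [pow_succ', ih, List.replicate_succ, List.flatten_cons, wordProd_append]

theorem u0_eq : u0 = cs6.wordProd [0, 2, 3, 4] := by
  rw [u0]
  simp [wordProd_cons, mul_assoc]

set_option backward.isDefEq.respectTransparency false in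
theorem u0_pow : u0 ^ 5 = 1 := by
  rw [u0_eq, wordProd_pow]
  exact CoxeterWordCheck.wordProd_eq_one cs6 hp6.isCartan _ (by decide +kernel)

theorem u0_ne : u0 ≠ 1 := by
  intro h
  have h1 : u0 ∈ stab (fun _ => (1 : ℤ)) := by
    rw [h]
    exact one_mem _
  exact one_ne_zero (zero_of_u0 h1).1

theorem orderOf_u0 : orderOf u0 = 5 := by
  have h1 := orderOf_dvd_of_pow_eq_one u0_pow
  rcases (Nat.dvd_prime Nat.prime_five).1 h1 with h2 | h2
  · exact absurd (orderOf_eq_one_iff.1 h2) u0_ne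
  · exact h2

theorem card_W6 : Nat.card W6 = 51840 := S1093.result (⟨6, CoxeterMatrix.E₆⟩, 51840) (by simp)

instance finite_W6 : Finite W6 := Nat.finite_of_card_ne_zero (by rw [card_W6]; norm_num)

/-! ### averaging -/

/-- removing powers of 2 -/
theorem exists_odd (N : ℕ) : ∀ (m : Fin 6 → ℤ) (i : Fin 6), m i ≠ 0 → (m i).natAbs ≤ N →
    ∃ (k : ℕ) (m' : Fin 6 → ℤ), m = (2 ^ k : ℤ) • m' ∧ ∃ j, Odd (m' j) := by
  induction N with
  | zero =>
    intro m i h1 h2
    exact absurd (Int.natAbs_eq_zero.1 (Nat.le_zero.1 h2)) h1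
  | succ N ih =>
    intro m i h1 h2
    by_cases ho : ∃ j, Odd (m j)
    · exact ⟨0, m, by simp, ho⟩
    · have he : ∀ j, ∃ x, m j = 2 * x := by
        intro j
        have h3 : ¬ Odd (m j) := fun h => ho ⟨j, h⟩
        rw [Int.not_odd_iff_even] at h3
        obtain ⟨x, hx⟩ := h3
        exact ⟨x, by rw [hx]; ring⟩
      choose m1 hm1 using he
      have h4 : m1 i ≠ 0 := by
        intro h5
        apply h1
        rw [hm1, h5, mul_zero]
      have h5 : (m1 i).natAbs ≤ N := by
        have := hm1 i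
        omega
      obtain ⟨k, m', hm', hodd⟩ := ih m1 i h4 h5
      refine ⟨k + 1, m', ?_, hodd⟩
      funext j
      rw [hm1, hm', Pi.smul_apply, Pi.smul_apply, smul_eq_mul, smul_eq_mul, pow_succ]
      ring

theorem finish {l : ℕ} [Fact l.Prime] (hl2 : l ≠ 2) {c : Fin 6 → ZMod l} (hc : c ≠ 0) (m' : Fin 6 → ℤ) {N : ZMod l}
    (hN : N ≠ 0) (hm' : ∀ i, (m' i : ZMod l) = N * c i) (hst : stab c ≤ stab m') :
    ∃ (m : Fin 6 → ℤ) (u : ZMod l), IsUnit u ∧ (∃ i, Odd (m i)) ∧ (∀ i, c i = u * (m i : ZMod l)) ∧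
      ∀ w, FixW c w → FixW m w := by
  obtain ⟨i, hi⟩ : ∃ i, c i ≠ 0 := by
    by_contra hcon
    push Not at hcon
    exact hc (funext hcon)
  have h0 : m' i ≠ 0 := by
    intro h
    have h1 := hm' i
    rw [h, Int.cast_zero] at h1
    exact mul_ne_zero hN hi h1.symm
  obtain ⟨k, m, hm, hodd⟩ := exists_odd _ m' i h0 le_rfl
  have h2 : ((2 : ℤ) : ZMod l) ≠ 0 := by
    intro h
    have h3 : ((2 : ℕ) : ZMod l) = 0 := by exact_mod_cast h
    rw [ZMod.natCast_eq_zero_iff] at h3
    exact hl2 ((Nat.prime_dvd_prime_iff_eq Fact.out Nat.prime_two).1 h3)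
  have h2' : (2 : ZMod l) ≠ 0 := by exact_mod_cast h2
  refine ⟨m, N⁻¹ * 2 ^ k, ?_, hodd, ?_, ?_⟩
  · exact (mul_ne_zero (inv_ne_zero hN) (pow_ne_zero k h2')).isUnit
  · intro j
    have h3 := hm' j
    rw [hm, Pi.smul_apply, smul_eq_mul, Int.cast_mul, Int.cast_pow, Int.cast_ofNat] at h3
    rw [mul_assoc, h3, ← mul_assoc, inv_mul_cancel₀ hN, one_mul]
  · intro w hw
    rw [fixW_iff] at hw ⊢
    have h3 : pull m' w = m' := hst hw
    rw [hm, pull_smul] at h3
    exact smul_right_injective _ (pow_ne_zero k two_ne_zero) h3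

/-- **Averaging** over the cosets of a subgroup `H` of the stabiliser fixing a lift. -/
theorem lift_of_sub {l : ℕ} [Fact l.Prime] (hl2 : l ≠ 2) {c : Fin 6 → ZMod l} (hc : c ≠ 0) (H : Subgroup W6)
    (hidx : ¬ l ∣ H.relIndex (stab c)) (m0 : Fin 6 → ℤ) (hm0 : ∀ i, (m0 i : ZMod l) = c i)
    (hfix : H ≤ stab m0) :
    ∃ (m : Fin 6 → ℤ) (u : ZMod l), IsUnit u ∧ (∃ i, Odd (m i)) ∧ (∀ i, c i = u * (m i : ZMod l)) ∧
      ∀ w, FixW c w → FixW m w := by
  classical
  let Q := ↥(stab c) ⧸ H.subgroupOf (stab c)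
  have : Fintype Q := Fintype.ofFinite Q
  let F : Q → Fin 6 → ℤ := fun q => pull m0 ((q.out : ↥(stab c)) : W6)⁻¹
  have hF : ∀ w : ↥(stab c), F (QuotientGroup.mk w) = pull m0 ((w : W6)⁻¹) := by
    intro w
    have h1 : (QuotientGroup.mk (Quotient.out (QuotientGroup.mk w : Q)) : Q) = QuotientGroup.mk w :=
      QuotientGroup.out_eq' _
    have h2 := QuotientGroup.eq.1 h1.symm
    rw [Subgroup.mem_subgroupOf] at h2
    set v : ↥(stab c) := Quotient.out (QuotientGroup.mk w : Q) with hv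
    show pull m0 ((v : W6)⁻¹) = _
    have h3 : ((w : W6)⁻¹ * (v : W6))⁻¹ ∈ stab m0 := inv_mem (hfix h2)
    have h4 : (v : W6)⁻¹ = ((w : W6)⁻¹ * (v : W6))⁻¹ * (w : W6)⁻¹ := by group
    rw [h4, pull_mul, mem_stab.1 h3]
  let m' : Fin 6 → ℤ := ∑ q : Q, F q
  refine finish hl2 hc m' (N := (Fintype.card Q : ZMod l)) ?_ ?_ ?_
  · intro h
    rw [ZMod.natCast_eq_zero_iff] at h
    apply hidx
    rw [Subgroup.relIndex, Subgroup.index_eq_card, Nat.card_eq_fintype_card]
    exact h
  · intro i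
    show (((∑ q : Q, F q) i : ℤ) : ZMod l) = _
    rw [Finset.sum_apply, Int.cast_sum, ← nsmul_eq_mul, ← Finset.card_univ, ← Finset.sum_const]
    refine Finset.sum_congr rfl fun q _ => ?_
    have h1 := congrFun (pull_map (Int.castAddHom (ZMod l)) m0 ((q.out : ↥(stab c)) : W6)⁻¹) i
    refine h1.trans ?_
    have h2 : (fun i => (Int.castAddHom (ZMod l)) (m0 i)) = c := funext hm0
    rw [h2, mem_stab.1 (inv_mem (q.out : ↥(stab c)).2)]
  · intro v hv
    rw [mem_stab]
    show pull (∑ q : Q, F q) v = ∑ q : Q, F q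
    rw [pull_sum]
    refine Fintype.sum_equiv (MulAction.toPerm (⟨v, hv⟩ : ↥(stab c))⁻¹) _ _ fun q => ?_
    obtain ⟨w, rfl⟩ := QuotientGroup.mk_surjective q
    have e : MulAction.toPerm (⟨v, hv⟩ : ↥(stab c))⁻¹ (QuotientGroup.mk w : Q) =
        (QuotientGroup.mk ((⟨v, hv⟩ : ↥(stab c))⁻¹ * w) : Q) := rfl
    rw [e, hF, hF, ← pull_mul]
    congr 1
    show (w : W6)⁻¹ * v = (v⁻¹ * (w : W6))⁻¹
    group

theorem not_dvd_card {l : ℕ} (hl : l.Prime) (h2 : l ≠ 2) (h3 : l ≠ 3) (h5 : l ≠ 5) : ¬ l ∣ 51840 := by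
  intro h
  rw [show 51840 = 2 ^ 7 * 3 ^ 4 * 5 by norm_num] at h
  rcases hl.dvd_mul.1 h with h1 | h1
  · rcases hl.dvd_mul.1 h1 with h4 | h4
    · exact h2 ((Nat.prime_dvd_prime_iff_eq hl Nat.prime_two).1 (hl.dvd_of_dvd_pow h4))
    · exact h3 ((Nat.prime_dvd_prime_iff_eq hl Nat.prime_three).1 (hl.dvd_of_dvd_pow h4))
  · exact h5 ((Nat.prime_dvd_prime_iff_eq hl Nat.prime_five).1 h1)

/-- **T1.** -/
theorem liftSt : LiftSt := by
  intro l hl hl2 hl3 c hc
  have : Fact l.Prime := ⟨hl⟩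
  have hcard : Nat.card (stab c) ∣ 51840 := by
    rw [← card_W6]
    exact Subgroup.card_subgroup_dvd_card _
  by_cases h : l ∣ Nat.card (stab c)
  · -- `l = 5`
    have hl5 : l = 5 := by
      by_contra h5
      exact not_dvd_card hl hl2 hl3 h5 (h.trans hcard)
    subst hl5
    obtain ⟨v, hv⟩ := exists_prime_orderOf_dvd_card' 5 h
    have hv' : orderOf (v : W6) = 5 := by rw [Subgroup.orderOf_coe, hv]
    have hfact : (Nat.card W6).factorization 5 = 1 := by
      rw [card_W6, show 51840 = 5 ^ 1 * 10368 by norm_num, Nat.factorization_mul (by norm_num) (by norm_num),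
        Finsupp.add_apply, Nat.prime_five.factorization_pow, Finsupp.single_eq_same,
        Nat.factorization_eq_zero_of_not_dvd (by norm_num)]
    let P0 : Sylow 5 W6 := Sylow.ofCard (Subgroup.zpowers u0) (by rw [Nat.card_zpowers, orderOf_u0, hfact, pow_one])
    let P1 : Sylow 5 W6 := Sylow.ofCard (Subgroup.zpowers (v : W6)) (by rw [Nat.card_zpowers, hv', hfact, pow_one])
    obtain ⟨g, hg⟩ := MulAction.exists_smul_eq W6 P0 P1
    have hconj : ∀ x : W6, x ∈ Subgroup.zpowers (v : W6) ↔ g⁻¹ * x * g ∈ Subgroup.zpowers u0 := by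
      intro x
      have h1 : x ∈ ((P1 : Sylow 5 W6) : Subgroup W6) ↔ x ∈ ((g • P0 : Sylow 5 W6) : Subgroup W6) := by rw [hg]
      refine h1.trans ?_
      rw [Sylow.smul_def, Sylow.pointwise_smul_def, Subgroup.mem_pointwise_smul_iff_inv_smul_mem,
        ← map_inv, MulAut.smul_def, MulAut.conj_apply, inv_inv]
      rfl
    have hvst : Subgroup.zpowers (v : W6) ≤ stab c := by
      rw [Subgroup.zpowers_le]
      exact v.2
    -- `c ∘ g` is fixed by `u0`
    have hu : u0 ∈ stab (pull c g) := by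
      have h1 : g * u0 * g⁻¹ ∈ stab c := by
        apply hvst
        rw [hconj]
        have e : g⁻¹ * (g * u0 * g⁻¹) * g = u0 := by group
        rw [e]
        exact Subgroup.mem_zpowers u0
      rw [mem_stab, ← pull_mul]
      have e : g * u0 = (g * u0 * g⁻¹) * g := by group
      rw [e, pull_mul, mem_stab.1 h1]
    obtain ⟨z0, z2, z3, z4⟩ := zero_of_u0 hu
    let m1 : Fin 6 → ℤ := fun i => if i = 1 ∨ i = 5 then ((pull c g i).val : ℤ) else 0
    have hm1 : ∀ i, (m1 i : ZMod 5) = pull c g i := by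
      intro i
      show (((if i = 1 ∨ i = 5 then ((pull c g i).val : ℤ) else 0 : ℤ)) : ZMod 5) = pull c g i
      split_ifs with hi
      · rw [Int.cast_natCast, ZMod.natCast_zmod_val]
      · rw [Int.cast_zero]
        have h1 : i = 0 ∨ i = 2 ∨ i = 3 ∨ i = 4 := by
          revert hi
          revert i
          decide
        rcases h1 with rfl | rfl | rfl | rfl
        · exact z0.symm
        · exact z2.symm
        · exact z3.symm
        · exact z4.symm
    have hu1 : u0 ∈ stab m1 := u0_mem (by simp [m1]) (by simp [m1]) (by simp [m1]) (by simp [m1])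
    refine lift_of_sub hl2 hc (Subgroup.zpowers (v : W6)) ?_ (pull m1 g⁻¹) ?_ ?_
    · intro hd
      have h1 : Nat.card (Subgroup.zpowers (v : W6)) * (Subgroup.zpowers (v : W6)).relIndex (stab c) = Nat.card (stab c) := by
        have := Subgroup.relIndex_mul_relIndex ⊥ (Subgroup.zpowers (v : W6)) (stab c) bot_le hvst
        rwa [Subgroup.relIndex_bot_left, Subgroup.relIndex_bot_left] at this
      rw [Nat.card_zpowers, hv'] at h1
      have h2 : 5 * 5 ∣ 51840 := (by rw [← h1]; exact Nat.mul_dvd_mul_left 5 hd : 5 * 5 ∣ Nat.card (stab c)).trans hcard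
      norm_num at h2
    · intro i
      have h1 := congrFun (pull_map (Int.castAddHom (ZMod 5)) m1 g⁻¹) i
      refine h1.trans ?_
      have h2 : (fun i => (Int.castAddHom (ZMod 5)) (m1 i)) = pull c g := funext hm1
      rw [h2, ← pull_mul, mul_inv_cancel, pull_one]
    · intro x hx
      rw [hconj] at hx
      have h1 : g⁻¹ * x * g ∈ stab m1 := (Subgroup.zpowers_le.2 hu1) hx
      rw [mem_stab, ← pull_mul]
      have e : g⁻¹ * x = (g⁻¹ * x * g) * g⁻¹ := by group
      rw [e, pull_mul, mem_stab.1 h1]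
  · refine lift_of_sub hl2 hc ⊥ ?_ (fun i => ((c i).val : ℤ)) ?_ bot_le
    · rwa [Subgroup.relIndex_bot_left]
    · intro i
      rw [Int.cast_natCast, ZMod.natCast_zmod_val]

end Cfsg.Agent.H298.Car
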